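import Mathlib.RingTheory.TensorProduct.Basic
import Mathlib.RingTheory.TensorProduct.Maps
import Mathlib.LinearAlgebra.TensorProduct.Tower
import Mathlib.Algebra.Module.Projective
import Mathlib.LinearAlgebra.Matrix.Charpoly.Basic
import Mathlib.LinearAlgebra.Matrix.ToLinearEquiv
import Mathlib.FieldTheory.IsAlgClosed.Basic
import Mathlib.RingTheory.Finiteness.Basic
import Mathlib.RingTheory.TensorProduct.Finite

/-!
Characteristic polynomials in a finite projective algebra, computed in a direct summand frame.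
-/

set_option autoImplicit false
universe u

open TensorProduct Polynomial

noncomputable section

namespace Groth.Agent.CoactOrbitLib

/-- A finite frame of a finite projective module. -/
structure Frame (R : Type u) [CommRing R] (A : Type u) [AddCommGroup A] [Module R A] where
  /-- the size -/
  n : ℕ
  /-- the elements -/
  p : Fin n → A
  /-- the coordinates -/
  c : Fin n → A →ₗ[R] R
  sum_eq : ∀ a, ∑ i, c i a • p i = a

variable {R A : Type u} [CommRing R] [CommRing A] [Algebra R A]

theorem exists_frame [Module.Finite R A] [Module.Projective R A] : Nonempty (Frame R A) := by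
  obtain ⟨n, f, hf⟩ := Module.Finite.exists_fin' R A
  obtain ⟨s, hs⟩ := Module.projective_lifting_property f LinearMap.id hf
  refine ⟨⟨n, fun i => f (Pi.single i 1), fun i => (LinearMap.proj i).comp s, fun a => ?_⟩⟩
  conv_rhs => rw [show a = f (s a) from (LinearMap.congr_fun hs a).symm, pi_eq_sum_univ' (s a)]
  rw [map_sum]
  refine Finset.sum_congr rfl fun i _ => ?_
  rw [map_smul]
  rfl

variable (F : Frame R A) (S : Type u) [CommRing S] [Algebra R S]

/-- Coordinates after base change. -/
def Frame.coord (i : Fin F.n) : S ⊗[R] A →ₗ[S] S :=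
  (AlgebraTensorModule.rid R S S).toLinearMap ∘ₗ (F.c i).baseChange S

variable {S}

theorem Frame.coord_tmul (i : Fin F.n) (s : S) (a : A) : F.coord S i (s ⊗ₜ a) = F.c i a • s := by
  simp [Frame.coord]

theorem Frame.sum_coord (w : S ⊗[R] A) : ∑ i, F.coord S i w • ((1 : S) ⊗ₜ[R] F.p i) = w := by
  induction w using TensorProduct.induction_on with
  | zero => simp
  | add x y hx hy => simp only [map_add, add_smul, Finset.sum_add_distrib, hx, hy]
  | tmul s a =>
    conv_rhs => rw [← F.sum_eq a, TensorProduct.tmul_sum]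
    refine Finset.sum_congr rfl fun i _ => ?_
    rw [F.coord_tmul, TensorProduct.smul_tmul', smul_eq_mul, mul_one, TensorProduct.tmul_smul,
      TensorProduct.smul_tmul']

/-- The matrix of multiplication. -/
def Frame.mat (z : S ⊗[R] A) : Matrix (Fin F.n) (Fin F.n) S :=
  Matrix.of fun i j => F.coord S i (z * ((1 : S) ⊗ₜ F.p j))

theorem Frame.coord_mul (z w : S ⊗[R] A) (i : Fin F.n) :
    F.coord S i (z * w) = ∑ k, F.mat z i k * F.coord S k w := by
  conv_lhs => rw [← F.sum_coord w, Finset.mul_sum, map_sum]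
  refine Finset.sum_congr rfl fun k _ => ?_
  rw [mul_smul_comm, map_smul, smul_eq_mul, mul_comm]
  rfl

theorem Frame.mat_mul (z w : S ⊗[R] A) : F.mat (z * w) = F.mat z * F.mat w := by
  ext i j
  rw [Matrix.mul_apply]
  show F.coord S i (z * w * _) = _
  rw [mul_assoc, F.coord_mul]
  rfl

theorem Frame.mat_add (z w : S ⊗[R] A) : F.mat (z + w) = F.mat z + F.mat w := by
  ext i j
  simp [Frame.mat, add_mul]

theorem Frame.mat_smul (s : S) (z : S ⊗[R] A) : F.mat (s • z) = s • F.mat z := by
  ext i j
  simp [Frame.mat, smul_mul_assoc]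

theorem Frame.mat_zero : F.mat (0 : S ⊗[R] A) = 0 := by
  ext i j
  simp [Frame.mat]

theorem Frame.mat_injective : Function.Injective (F.mat (S := S)) := by
  intro z w h
  rw [← F.sum_coord z, ← F.sum_coord w]
  refine Finset.sum_congr rfl fun i _ => ?_
  rw [← mul_one z, ← mul_one w, F.coord_mul, F.coord_mul, h]

/-- The characteristic polynomial of an element. -/
def Frame.cp (z : S ⊗[R] A) : S[X] := (F.mat z).charpoly

theorem Frame.cp_monic (z : S ⊗[R] A) : (F.cp z).Monic := Matrix.charpoly_monic _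

theorem Frame.mat_aeval (z : S ⊗[R] A) (P : S[X]) : F.mat (aeval z P) = aeval (F.mat z) P * F.mat 1 := by
  induction P using Polynomial.induction_on' with
  | add P Q hP hQ => rw [map_add, F.mat_add, hP, hQ, map_add, add_mul]
  | monomial k c =>
    have hk : F.mat (z ^ k) = F.mat z ^ k * F.mat 1 := by
      induction k with
      | zero => simp
      | succ k ih => rw [pow_succ', F.mat_mul, ih, pow_succ', mul_assoc]
    rw [aeval_monomial, aeval_monomial, ← Algebra.smul_def, ← Algebra.smul_def, F.mat_smul, hk, smul_mul_assoc]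

theorem Frame.aeval_cp (z : S ⊗[R] A) : aeval z (F.cp z) = 0 := by
  refine F.mat_injective ?_
  rw [F.mat_aeval, Frame.cp, Matrix.aeval_self_charpoly, zero_mul, F.mat_zero]

variable {S' : Type u} [CommRing S'] [Algebra R S']

theorem Frame.cp_map (f : S →ₐ[R] S') (z : S ⊗[R] A) :
    F.cp (Algebra.TensorProduct.map f (AlgHom.id R A) z) = (F.cp z).map f.toRingHom := by
  rw [Frame.cp, Frame.cp, ← Matrix.charpoly_map]
  congr 1
  ext i j
  have key : ∀ w : S ⊗[R] A, F.coord S' i (Algebra.TensorProduct.map f (AlgHom.id R A) w) = f (F.coord S i w) := by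
    intro w
    induction w using TensorProduct.induction_on with
    | zero => simp
    | add x y hx hy => simp only [map_add, hx, hy]
    | tmul s a => simp [F.coord_tmul]
  show F.coord S' i (_ * _) = f (F.coord S i (z * _))
  rw [← key, map_mul (Algebra.TensorProduct.map f (AlgHom.id R A)), Algebra.TensorProduct.map_tmul,
    map_one, AlgHom.id_apply]

theorem Frame.cp_algEquiv (σ : S ⊗[R] A ≃ₐ[S] S ⊗[R] A) (z : S ⊗[R] A) : F.cp (σ z) = F.cp z := by
  let U : Matrix (Fin F.n) (Fin F.n) S := Matrix.of fun i j => F.coord S i (σ ((1 : S) ⊗ₜ F.p j))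
  let V : Matrix (Fin F.n) (Fin F.n) S := Matrix.of fun i j => F.coord S i (σ.symm ((1 : S) ⊗ₜ F.p j))
  have hlin : ∀ (τ : S ⊗[R] A ≃ₐ[S] S ⊗[R] A) (w : S ⊗[R] A) (i : Fin F.n),
      F.coord S i (τ w) = ∑ k, F.coord S i (τ ((1 : S) ⊗ₜ F.p k)) * F.coord S k w := by
    intro τ w i
    conv_lhs => rw [← F.sum_coord w, map_sum, map_sum]
    refine Finset.sum_congr rfl fun k _ => ?_
    rw [map_smul, map_smul, smul_eq_mul, mul_comm]
  have hUV : U * V = F.mat 1 := by
    ext i j
    rw [Matrix.mul_apply]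
    exact (hlin σ _ i).symm.trans (by rw [AlgEquiv.apply_symm_apply]; show _ = F.coord S i (1 * _); rw [one_mul])
  have hVU : V * U = F.mat 1 := by
    ext i j
    rw [Matrix.mul_apply]
    exact (hlin σ.symm _ i).symm.trans (by rw [AlgEquiv.symm_apply_apply]; show _ = F.coord S i (1 * _); rw [one_mul])
  have hU : F.mat (σ z) * U = U * F.mat z := by
    ext i j
    rw [Matrix.mul_apply, Matrix.mul_apply]
    have h1 := F.coord_mul (σ z) (σ ((1 : S) ⊗ₜ F.p j)) i
    rw [← map_mul, hlin σ] at h1
    exact h1.symm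
  show (F.mat (σ z)).charpoly = (F.mat z).charpoly
  calc (F.mat (σ z)).charpoly = (F.mat (σ z) * (U * V)).charpoly := by rw [hUV, ← F.mat_mul, mul_one]
    _ = ((U * F.mat z) * V).charpoly := by rw [← mul_assoc, hU]
    _ = (V * (U * F.mat z)).charpoly := Matrix.charpoly_mul_comm _ _
    _ = (F.mat z).charpoly := by rw [← mul_assoc, hVU, ← F.mat_mul, one_mul]

theorem Frame.exists_point_of_isRoot [Module.Finite R A] {K : Type u} [Field K] [Algebra R K] [IsAlgClosed K]
    (z : K ⊗[R] A) {l : K} (hl : l ≠ 0) (hroot : (F.cp z).IsRoot l) :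
    ∃ g : K ⊗[R] A →ₐ[K] K, g z = l := by
  rw [Polynomial.IsRoot, Frame.cp, Matrix.eval_charpoly] at hroot
  obtain ⟨v, hv0, hv⟩ := Matrix.exists_mulVec_eq_zero_iff.2 hroot
  have hv' : ∀ i, ∑ k, F.mat z i k * v k = l * v i := fun i => by
    have h := congrFun hv i
    rw [Matrix.sub_mulVec, Pi.sub_apply, Matrix.scalar_apply, Matrix.mulVec_diagonal, Pi.zero_apply,
      sub_eq_zero] at h
    exact h.symm
  let w : K ⊗[R] A := ∑ k, v k • ((1 : K) ⊗ₜ F.p k)
  have hzw : z * w = l • w := by
    rw [← F.sum_coord (z * w), Finset.smul_sum]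
    refine Finset.sum_congr rfl fun i _ => ?_
    have h1 : F.coord K i (z * w) = l * v i := by
      rw [Finset.mul_sum, map_sum, ← hv' i]
      refine Finset.sum_congr rfl fun k _ => ?_
      rw [mul_smul_comm, map_smul, smul_eq_mul, mul_comm]
      rfl
    rw [h1, mul_smul]
  have hw : w ≠ 0 := fun hw => hv0 (funext fun i => by
    have h1 : F.coord K i (z * w) = l * v i := by
      rw [Finset.mul_sum, map_sum, ← hv' i]
      refine Finset.sum_congr rfl fun k _ => ?_
      rw [mul_smul_comm, map_smul, smul_eq_mul, mul_comm]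
      rfl
    rw [hw, mul_zero, map_zero] at h1
    exact (mul_eq_zero.1 h1.symm).resolve_left hl)
  have hnu : ¬ IsUnit (z - algebraMap K _ l) := fun hu => hw (hu.mul_right_eq_zero.1 (by
    rw [sub_mul, hzw, Algebra.smul_def, sub_self]))
  obtain ⟨m, hm, hzm⟩ := exists_max_ideal_of_mem_nonunits hnu
  letI : Field ((K ⊗[R] A) ⧸ m) := Ideal.Quotient.field m
  haveI : Algebra.IsIntegral K ((K ⊗[R] A) ⧸ m) := Algebra.IsIntegral.of_finite _ _
  let e : K ≃ₐ[K] (K ⊗[R] A) ⧸ m := AlgEquiv.ofBijective (Algebra.ofId K _) IsAlgClosed.algebraMap_bijective_of_isIntegral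
  refine ⟨e.symm.toAlgHom.comp (Ideal.Quotient.mkₐ K m), ?_⟩
  show e.symm (Ideal.Quotient.mk m z) = l
  rw [AlgEquiv.symm_apply_eq]
  show _ = algebraMap K _ l
  exact Ideal.Quotient.eq.2 hzm

end Groth.Agent.CoactOrbitLib
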