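import Groth.Agent.CoactOrbitLib.Pts
import Mathlib.RingTheory.Finiteness.Nakayama
import Mathlib.RingTheory.Ideal.GoingUp
import Mathlib.RingTheory.LocalRing.ResidueField.Ideal
import Mathlib.RingTheory.Localization.AtPrime.Basic
import Mathlib.RingTheory.Flat.Basic
import Mathlib.RingTheory.TensorProduct.Finite

/-!
Inertia of a coaction of a finite projective Hopf algebra: conjugacy over the invariants and spreading of triviality.
-/

set_option autoImplicit false
universe u

open TensorProduct WithConv Groth.Agent.MultTypeLib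

noncomputable section

namespace Groth.Agent.CoactOrbitLib

attribute [local instance 2000] algConvGroup

variable {R A B : Type u} [CommRing R] [CommRing A] [HopfAlgebra R A] [Module.Finite R A] [Module.Projective R A]
  [CommRing B] [Algebra R B] [HopfRep.Comod R A B] [GLin.IsCoactAlg R A B]

local notation "ρ₀" => GLin.coactAlgHom R A B

theorem mem_invariants {c : B} (h : ρ₀ c = c ⊗ₜ (1 : A)) : c ∈ GLin.invariants R A B := h

theorem trivAlg_descend {K K' : Type u} [Field K] [Algebra R K] [Field K'] [Algebra R K'] (ψ : K →ₐ[R] K')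
    (x : B →ₐ[R] K) (h : TrivAlg (A := A) (ψ.comp x)) : TrivAlg (A := A) x := by
  intro L _ _ φ a ha
  letI : Algebra K K' := ψ.toRingHom.toAlgebra
  letI : Algebra K L := φ.toRingHom.toAlgebra
  haveI : IsScalarTower R K L := IsScalarTower.of_algebraMap_eq fun r => (φ.commutes r).symm
  haveI : IsScalarTower R K K' := IsScalarTower.of_algebraMap_eq fun r => (ψ.commutes r).symm
  let L' := L ⊗[K] K'
  let i : L →ₐ[R] L' := Algebra.TensorProduct.includeLeft
  let j : K' →ₐ[R] L' := (Algebra.TensorProduct.includeRight : K' →ₐ[K] L').restrictScalars R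
  have hi : Function.Injective i :=
    Algebra.TensorProduct.includeLeft_injective (algebraMap K K').injective
  have hij : j.comp (ψ.comp x) = i.comp (φ.comp x) := AlgHom.ext fun b =>
    ((Algebra.TensorProduct.includeRight : K' →ₐ[K] L').commutes (x b)).trans
      ((Algebra.TensorProduct.includeLeft : L →ₐ[K] L').commutes (x b)).symm
  have h1 := h L' inferInstance inferInstance j (i.comp a) (by rw [hij, ← comp_act, ha])
  refine AlgHom.ext fun c => hi ?_
  show (i.comp a) c = i (algebraMap R L _)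
  rw [h1, i.commutes]
  rfl

theorem trivAlg_comp {K K' : Type u} [CommRing K] [Algebra R K] [CommRing K'] [Algebra R K'] (ψ : K →ₐ[R] K')
    (x : B →ₐ[R] K) (h : TrivAlg (A := A) x) : TrivAlg (A := A) (ψ.comp x) :=
  fun L i1 i2 φ a ha => h L i1 i2 (φ.comp ψ) a ha

theorem trivAlg_translate {K : Type u} [CommRing K] [Algebra R K] (x : B →ₐ[R] K) (g : A →ₐ[R] K)
    (h : TrivAlg (A := A) x) : TrivAlg (A := A) (act ρ₀ x g) := by
  intro L _ _ φ a ha
  rw [comp_act, act_act] at ha
  let G : WithConv (A →ₐ[R] L) := toConv (φ.comp g)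
  have h1 : act ρ₀ (φ.comp x) (G * toConv a * G⁻¹).ofConv = φ.comp x := by
    rw [← act_act, ha, act_act, mul_inv_cancel]
    exact act_one _
  have h2 : G * toConv a * G⁻¹ = 1 := WithConv.ext (h L inferInstance inferInstance φ _ h1)
  have h3 : toConv a = 1 := by
    rw [← mul_right_inj G, mul_one]
    exact mul_inv_eq_one.1 h2
  exact congrArg WithConv.ofConv h3

omit [Module.Finite R A] [Module.Projective R A] in
theorem exists_common_field {K₁ K₂ : Type u} [Field K₁] [Algebra R K₁] [Field K₂] [Algebra R K₂]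
    (x₁ : B →ₐ[R] K₁) (x₂ : B →ₐ[R] K₂) (hker : ∀ c ∈ GLin.invariants R A B, x₁ c = 0 ↔ x₂ c = 0) :
    ∃ (K : Type u) (_ : Field K) (_ : IsAlgClosed K) (_ : Algebra R K) (ψ₁ : K₁ →ₐ[R] K) (ψ₂ : K₂ →ₐ[R] K),
      ∀ c ∈ GLin.invariants R A B, ψ₁ (x₁ c) = ψ₂ (x₂ c) := by
  let C := GLin.invariants R A B
  let f₁ : C →+* K₁ := x₁.toRingHom.comp C.val.toRingHom
  let f₂ : C →+* K₂ := x₂.toRingHom.comp C.val.toRingHom
  let q : Ideal C := RingHom.ker f₁
  haveI : q.IsPrime := RingHom.ker_isPrime f₁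
  have hu₁ : q.primeCompl ≤ (IsUnit.submonoid K₁).comap f₁ := fun c hc => Ne.isUnit hc
  have hu₂ : q.primeCompl ≤ (IsUnit.submonoid K₂).comap f₂ := fun c hc => Ne.isUnit fun h0 => hc ((hker c c.2).2 h0)
  let F := q.ResidueField
  let g₁ : F →+* K₁ := Ideal.ResidueField.lift q f₁ le_rfl hu₁
  let g₂ : F →+* K₂ := Ideal.ResidueField.lift q f₂
    (fun c (hc : f₁ c = 0) => (hker c c.2).1 hc) hu₂
  letI : Algebra F K₁ := g₁.toAlgebra
  letI : Algebra F K₂ := g₂.toAlgebra
  obtain ⟨m, hm⟩ := Ideal.exists_maximal (K₁ ⊗[F] K₂)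
  letI := Ideal.Quotient.field m
  obtain ⟨K, _, _, ⟨j⟩⟩ : ∃ (K : Type u) (_ : Field K) (_ : IsAlgClosed K), Nonempty ((K₁ ⊗[F] K₂) ⧸ m →+* K) :=
    ⟨AlgebraicClosure ((K₁ ⊗[F] K₂) ⧸ m), inferInstance, inferInstance, ⟨algebraMap _ _⟩⟩
  let ψ₁ : K₁ →+* K := (j.comp (Ideal.Quotient.mk m)).comp Algebra.TensorProduct.includeLeftRingHom
  let ψ₂ : K₂ →+* K := (j.comp (Ideal.Quotient.mk m)).comp
    (Algebra.TensorProduct.includeRight : K₂ →ₐ[F] K₁ ⊗[F] K₂).toRingHom
  letI : Algebra R K := (ψ₁.comp (algebraMap R K₁)).toAlgebra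
  have hcomp : ∀ c : C, ψ₁ (f₁ c) = ψ₂ (f₂ c) := fun c => by
    rw [← Ideal.ResidueField.lift_algebraMap q f₁ le_rfl hu₁ c,
      ← Ideal.ResidueField.lift_algebraMap q f₂ (fun c (hc : f₁ c = 0) => (hker c c.2).1 hc) hu₂ c]
    refine congrArg (j.comp (Ideal.Quotient.mk m)) ?_
    exact ((Algebra.TensorProduct.includeLeft : K₁ →ₐ[F] K₁ ⊗[F] K₂).commutes _).trans
      ((Algebra.TensorProduct.includeRight : K₂ →ₐ[F] K₁ ⊗[F] K₂).commutes _).symm
  refine ⟨K, inferInstance, inferInstance, inferInstance, { ψ₁ with commutes' := fun r => rfl },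
    { ψ₂ with commutes' := fun r => ?_ }, fun c hc => hcomp ⟨c, hc⟩⟩
  have h := hcomp (algebraMap R C r)
  rw [show f₁ (algebraMap R C r) = algebraMap R K₁ r from x₁.commutes r,
    show f₂ (algebraMap R C r) = algebraMap R K₂ r from x₂.commutes r] at h
  exact h.symm

/-- Inertia only depends on the image in the quotient. -/
theorem trivAlg_of_agree {K₁ K₂ : Type u} [Field K₁] [Algebra R K₁] [Field K₂] [Algebra R K₂]
    (x₁ : B →ₐ[R] K₁) (x₂ : B →ₐ[R] K₂) (hker : ∀ c ∈ GLin.invariants R A B, x₁ c = 0 ↔ x₂ c = 0)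
    (h : TrivAlg (A := A) x₁) : TrivAlg (A := A) x₂ := by
  obtain ⟨K, _, _, _, ψ₁, ψ₂, hψ⟩ := exists_common_field x₁ x₂ hker
  obtain ⟨g, hg⟩ := exists_pt ρ₀ isCoassoc_coact isCounital_coact (ψ₁.comp x₁) (ψ₂.comp x₂)
    fun c hc => hψ c (mem_invariants hc)
  refine trivAlg_descend ψ₂ x₂ ?_
  rw [← hg]
  exact trivAlg_translate _ g (trivAlg_comp ψ₁ x₁ h)

theorem isIntegral_invariants : Algebra.IsIntegral (GLin.invariants R A B) B := by
  refine ⟨fun b => ?_⟩
  obtain ⟨P, hP, hcoeff, hPb⟩ := exists_monic_invariant ρ₀ isCoassoc_coact isCounital_coact b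
  have hl : P ∈ Polynomial.lifts (algebraMap (GLin.invariants R A B) B) :=
    (Polynomial.lifts_iff_coeff_lifts P).2 fun k => ⟨⟨P.coeff k, mem_invariants (hcoeff k)⟩, rfl⟩
  obtain ⟨Q, hQ, -, hQm⟩ := Polynomial.lifts_and_natDegree_eq_and_monic hl hP
  refine ⟨Q, hQm, ?_⟩
  rw [← Polynomial.eval_map, hQ, ← Polynomial.coe_aeval_eq_eval, hPb]

section Spread

variable (R A B)

/-- The ideal of the stabiliser. -/
def fixIdeal : Ideal (B ⊗[R] A) := Ideal.span (Set.range fun b => ρ₀ b - b ⊗ₜ (1 : A))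

/-- Projection to the augmentation ideal. -/
def augProj (L : Type u) [CommRing L] [Algebra R L] : L ⊗[R] A →ₗ[L] L ⊗[R] A :=
  LinearMap.id - ((Algebra.linearMap L (L ⊗[R] A)).comp
    ((Algebra.TensorProduct.rid R L L).toAlgHom.comp
      (Algebra.TensorProduct.map (AlgHom.id L L) (Bialgebra.counitAlgHom R A))).toLinearMap)

variable {R A B}

omit [Module.Finite R A] [Module.Projective R A] in
theorem augProj_tmul {L : Type u} [CommRing L] [Algebra R L] (l : L) (a : A) :
    augProj R A L (l ⊗ₜ a) = l ⊗ₜ a - (Coalgebra.counit (R := R) a • l) ⊗ₜ (1 : A) := by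
  simp [augProj, Algebra.TensorProduct.algebraMap_apply, TensorProduct.smul_tmul']

omit [Module.Finite R A] [Module.Projective R A] in
theorem map_augProj {L L' : Type u} [CommRing L] [Algebra R L] [CommRing L'] [Algebra R L'] (f : L →ₐ[R] L')
    (w : L ⊗[R] A) : Algebra.TensorProduct.map f (AlgHom.id R A) (augProj R A L w) =
      augProj R A L' (Algebra.TensorProduct.map f (AlgHom.id R A) w) := by
  induction w using TensorProduct.induction_on with
  | zero => simp
  | add p q hp hq => simp only [map_add, hp, hq]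
  | tmul l a => simp [augProj_tmul, map_smul]

omit [Module.Finite R A] [Module.Projective R A] in
theorem augProj_kill {K L Ω : Type u} [CommRing K] [Algebra R K] [CommRing L] [Algebra R L] [CommRing Ω]
    [Algebra R Ω] (z : B →ₐ[R] L) (q : L ⊗[R] A →ₐ[R] Ω) (x : B →ₐ[R] K) (ψ : K →ₐ[R] Ω)
    (hψ : ψ.comp x = (q.comp Algebra.TensorProduct.includeLeft).comp z)
    (hq : ∀ b, q (Algebra.TensorProduct.map z (AlgHom.id R A) (ρ₀ b - b ⊗ₜ (1 : A))) = 0)
    (h : TrivAlg (A := A) x) (a : A) : q (augProj R A L ((1 : L) ⊗ₜ a)) = 0 := by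
  let a₀ : A →ₐ[R] Ω := q.comp Algebra.TensorProduct.includeRight
  have hfix : act ρ₀ (ψ.comp x) a₀ = ψ.comp x := by
    rw [hψ]
    refine AlgHom.ext fun b => ?_
    have e : ∀ w : B ⊗[R] A, Algebra.TensorProduct.lift ((q.comp Algebra.TensorProduct.includeLeft).comp z) a₀
        (fun _ _ => .all _ _) w = q (Algebra.TensorProduct.map z (AlgHom.id R A) w) := fun w => by
      induction w using TensorProduct.induction_on with
      | zero => simp
      | add p q hp hq => simp only [map_add, hp, hq]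
      | tmul b a =>
        rw [Algebra.TensorProduct.lift_tmul]
        show q (z b ⊗ₜ (1 : A)) * q ((1 : L) ⊗ₜ a) = _
        rw [← map_mul, Algebra.TensorProduct.tmul_mul_tmul, mul_one, one_mul]
        rfl
    show Algebra.TensorProduct.lift _ a₀ (fun _ _ => .all _ _) (ρ₀ b) = q (z b ⊗ₜ (1 : A))
    rw [e, ← sub_eq_zero]
    have h1 := hq b
    rwa [map_sub, map_sub, Algebra.TensorProduct.map_tmul, map_one] at h1
  have ha := h Ω inferInstance inferInstance ψ a₀ hfix
  rw [augProj_tmul, map_sub, sub_eq_zero]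
  refine (AlgHom.congr_fun ha a).trans ?_
  show algebraMap R _ (Coalgebra.counit (R := R) a) = _
  rw [← q.commutes, Algebra.TensorProduct.algebraMap_apply, Algebra.algebraMap_eq_smul_one]

theorem exists_killer (p : Ideal B) [p.IsPrime]
    (h : TrivAlg (A := A) (IsScalarTower.toAlgHom R B p.ResidueField)) :
    ∃ s ∉ p, ∀ a : A, (s ⊗ₜ (1 : A)) * augProj R A B ((1 : B) ⊗ₜ a) ∈ fixIdeal R A B := by
  classical
  let L := Localization.AtPrime p
  let z : B →ₐ[R] L := IsScalarTower.toAlgHom R B L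
  let φ : B ⊗[R] A →ₐ[R] L ⊗[R] A := Algebra.TensorProduct.map z (AlgHom.id R A)
  let J : Ideal (L ⊗[R] A) := (fixIdeal R A B).map φ
  let m : Ideal L := IsLocalRing.maximalIdeal L
  let P := augProj R A L
  -- the augmentation ideal vanishes on the fibre
  have hfib : ∀ w, P w ∈ J.restrictScalars L ⊔ m • (⊤ : Submodule L (L ⊗[R] A)) := by
    let Q : Ideal (L ⊗[R] A) := J ⊔ m.map (algebraMap L (L ⊗[R] A))
    let mkQ : L ⊗[R] A →ₐ[R] (L ⊗[R] A) ⧸ Q := Ideal.Quotient.mkₐ R Q
    let ψ : p.ResidueField →ₐ[R] (L ⊗[R] A) ⧸ Q := Ideal.Quotient.liftₐ m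
      (mkQ.comp Algebra.TensorProduct.includeLeft) fun l hl =>
        Ideal.Quotient.eq_zero_iff_mem.2 (Submodule.mem_sup_right (Ideal.mem_map_of_mem _ hl))
    intro w
    induction w using TensorProduct.induction_on with
    | zero => simp
    | add p q hp hq => rw [map_add]; exact Submodule.add_mem _ hp hq
    | tmul l a =>
      have h1 : P ((1 : L) ⊗ₜ a) ∈ Q := Ideal.Quotient.eq_zero_iff_mem.1
        (augProj_kill (L := L) (Ω := (L ⊗[R] A) ⧸ Q) z mkQ _ ψ (AlgHom.ext fun b => rfl)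
          (fun b => Ideal.Quotient.eq_zero_iff_mem.2
            (Submodule.mem_sup_left (Ideal.mem_map_of_mem φ (Ideal.subset_span (Set.mem_range_self b) : ρ₀ b - b ⊗ₜ (1 : A) ∈ fixIdeal R A B)))) h a)
      have h2 : Q.restrictScalars L ≤ J.restrictScalars L ⊔ m • (⊤ : Submodule L (L ⊗[R] A)) := by
        intro x hx
        obtain ⟨u, hu, v, hv, rfl⟩ := Submodule.mem_sup.1 (hx : x ∈ J ⊔ m.map (algebraMap L (L ⊗[R] A)))
        refine Submodule.add_mem_sup hu ?_
        rw [Ideal.smul_top_eq_map]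
        exact hv
      rw [show l ⊗ₜ[R] a = l • ((1 : L) ⊗ₜ[R] a) by rw [TensorProduct.smul_tmul', smul_eq_mul, mul_one], map_smul]
      exact Submodule.smul_mem _ l (h2 h1)
  have hPJ : ∀ w ∈ J, P w = w := by
    let ε : L ⊗[R] A →ₐ[L] L := (Algebra.TensorProduct.rid R L L).toAlgHom.comp
      (Algebra.TensorProduct.map (AlgHom.id L L) (Bialgebra.counitAlgHom R A))
    have hle : J ≤ RingHom.ker ε := by
      rw [Ideal.map_le_iff_le_comap, fixIdeal, Ideal.span_le]
      rintro _ ⟨b, rfl⟩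
      show ε (φ (ρ₀ b - b ⊗ₜ (1 : A))) = 0
      have e : ∀ w : B ⊗[R] A, ε (φ w) = z (Algebra.TensorProduct.rid R R B
          (Algebra.TensorProduct.map (AlgHom.id R B) (Bialgebra.counitAlgHom R A) w)) := fun w => by
        induction w using TensorProduct.induction_on with
        | zero => simp
        | add p q hp hq => simp only [map_add, hp, hq]
        | tmul b a => simp [ε, φ, map_smul]
      rw [e, map_sub, map_sub, isCounital_coact b, Algebra.TensorProduct.map_tmul, map_one]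
      simp
    intro w hw
    show w - algebraMap L _ (ε w) = w
    rw [show ε w = 0 from hle hw, map_zero, sub_zero]
  let N : Submodule L ((L ⊗[R] A) ⧸ J.restrictScalars L) :=
    Submodule.map (J.restrictScalars L).mkQ (LinearMap.range P)
  have hN : N.FG := Submodule.FG.map _ (by
    rw [LinearMap.range_eq_map]
    exact Submodule.FG.map _ Module.Finite.fg_top)
  have hle : N ≤ m • N := by
    rintro _ ⟨i, ⟨w, rfl⟩, rfl⟩
    obtain ⟨j, hj, v, hv, hjv⟩ := Submodule.mem_sup.1 (hfib w)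
    have hPP : P (P w) = P w := by
      show P w - algebraMap L _ _ = P w
      rw [sub_eq_self]
      have : ∀ u, ((Algebra.TensorProduct.rid R L L).toAlgHom.comp
          (Algebra.TensorProduct.map (AlgHom.id L L) (Bialgebra.counitAlgHom R A))) (augProj R A L u) = 0 := fun u => by
        induction u using TensorProduct.induction_on with
        | zero => simp
        | add p q hp hq => simp only [map_add, hp, hq, add_zero]
        | tmul l a => simp [augProj_tmul]
      exact (congrArg _ (this w)).trans (map_zero _)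
    rw [← hPP, ← hjv, map_add, map_add, hPJ j hj, show (J.restrictScalars L).mkQ j = 0 from
      (Submodule.Quotient.mk_eq_zero _).2 hj, zero_add]
    have h3 : P v ∈ m • LinearMap.range P := by
      have := Submodule.mem_map_of_mem (f := P) hv
      rwa [Submodule.map_smul'', ← LinearMap.range_eq_map] at this
    have h4 := Submodule.mem_map_of_mem (f := (J.restrictScalars L).mkQ) h3
    rwa [Submodule.map_smul''] at h4
  obtain ⟨r, hr, hr0⟩ := Submodule.exists_sub_one_mem_and_smul_eq_zero_of_fg_of_le_smul m N hN hle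
  have hru : IsUnit r := by
    by_contra hru
    have hrm : r ∈ m := hru
    exact (IsLocalRing.maximalIdeal.isMaximal L).ne_top
      (Ideal.eq_top_iff_one _ |>.2 (by
        have h1 := m.sub_mem hrm hr
        rwa [sub_sub_cancel] at h1))
  have hN0 : ∀ w, P w ∈ J := fun w => by
    have h1 := hr0 _ (Submodule.mem_map_of_mem (f := (J.restrictScalars L).mkQ) (LinearMap.mem_range_self P w))
    rw [hru.smul_eq_zero] at h1
    exact (Submodule.Quotient.mk_eq_zero _).1 h1
  -- clearing denominators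
  have hden : ∀ y ∈ J, ∃ s ∉ p, ∃ j ∈ fixIdeal R A B, φ j = (z s ⊗ₜ (1 : A)) * y := by
    let T : Ideal (L ⊗[R] A) :=
      { carrier := {y | ∃ s ∉ p, ∃ j ∈ fixIdeal R A B, φ j = (z s ⊗ₜ (1 : A)) * y}
        add_mem' := by
          rintro y y' ⟨s, hs, j, hj, hy⟩ ⟨s', hs', j', hj', hy'⟩
          refine ⟨s * s', ‹p.IsPrime›.mul_notMem hs hs', (s' ⊗ₜ (1 : A)) * j + (s ⊗ₜ (1 : A)) * j',
            add_mem (Ideal.mul_mem_left _ _ hj) (Ideal.mul_mem_left _ _ hj'), ?_⟩
          rw [map_add, map_mul, map_mul, hy, hy', Algebra.TensorProduct.map_tmul, Algebra.TensorProduct.map_tmul,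
            map_one, map_mul, show (z s * z s') ⊗ₜ[R] (1 : A) = (z s ⊗ₜ[R] (1 : A)) * (z s' ⊗ₜ[R] (1 : A)) by
              rw [Algebra.TensorProduct.tmul_mul_tmul, mul_one]]
          ring
        zero_mem' := ⟨1, fun h1 => ‹p.IsPrime›.ne_top ((Ideal.eq_top_iff_one _).2 h1), 0, zero_mem _, by simp⟩
        smul_mem' := by
          rintro w y ⟨s, hs, j, hj, hy⟩
          obtain ⟨t, ht, u, hu⟩ : ∃ t ∉ p, ∃ u, φ u = (z t ⊗ₜ (1 : A)) * w := by
            induction w using TensorProduct.induction_on with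
            | zero => exact ⟨1, fun h1 => ‹p.IsPrime›.ne_top ((Ideal.eq_top_iff_one _).2 h1), 0, by simp⟩
            | tmul l a =>
              obtain ⟨⟨b, t⟩, hbt⟩ := IsLocalization.surj p.primeCompl l
              refine ⟨t.1, t.2, b ⊗ₜ a, ?_⟩
              rw [Algebra.TensorProduct.map_tmul, Algebra.TensorProduct.tmul_mul_tmul, one_mul, mul_comm,
                show l * z t.1 = z b from hbt]
              rfl
            | add w w' hw hw' =>
              obtain ⟨t, ht, u, hu⟩ := hw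
              obtain ⟨t', ht', u', hu'⟩ := hw'
              refine ⟨t * t', ‹p.IsPrime›.mul_notMem ht ht', (t' ⊗ₜ (1 : A)) * u + (t ⊗ₜ (1 : A)) * u', ?_⟩
              rw [map_add, map_mul, map_mul, hu, hu', Algebra.TensorProduct.map_tmul,
                Algebra.TensorProduct.map_tmul, map_one, map_mul,
                show (z t * z t') ⊗ₜ[R] (1 : A) = (z t ⊗ₜ[R] (1 : A)) * (z t' ⊗ₜ[R] (1 : A)) by
                  rw [Algebra.TensorProduct.tmul_mul_tmul, mul_one]]
              ring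
          refine ⟨t * s, ‹p.IsPrime›.mul_notMem ht hs, u * j, Ideal.mul_mem_left _ _ hj, ?_⟩
          rw [map_mul, hu, hy, map_mul, show (z t * z s) ⊗ₜ[R] (1 : A) = (z t ⊗ₜ[R] (1 : A)) * (z s ⊗ₜ[R] (1 : A)) by
            rw [Algebra.TensorProduct.tmul_mul_tmul, mul_one], smul_eq_mul]
          ring }
    suffices hle : J ≤ T from fun y hy => hle hy
    rw [Ideal.map_le_iff_le_comap]
    exact fun j hj => ⟨1, fun h1 => ‹p.IsPrime›.ne_top ((Ideal.eq_top_iff_one _).2 h1), j, hj, by
      rw [map_one, ← Algebra.TensorProduct.one_def, one_mul]⟩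
  obtain ⟨F⟩ := exists_frame (R := R) (A := A)
  have hker : ∀ w, φ w = 0 → ∃ s ∉ p, (s ⊗ₜ (1 : A)) * w = 0 := by
    intro w hw
    have hc : ∀ i, ∃ s ∉ p, s * F.coord B i w = 0 := fun i => by
      have key : ∀ v : B ⊗[R] A, F.coord L i (φ v) = z (F.coord B i v) := fun v => by
        induction v using TensorProduct.induction_on with
        | zero => simp
        | add p q hp hq => simp only [map_add, hp, hq]
        | tmul b a => simp [φ, F.coord_tmul, map_smul]
      have h1 := key w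
      rw [hw, map_zero] at h1
      obtain ⟨s, hs⟩ := (IsLocalization.map_eq_zero_iff p.primeCompl L _).1 h1.symm
      exact ⟨s.1, s.2, hs⟩
    choose s hs hs0 using hc
    refine ⟨∏ i, s i, fun h1 => ?_, ?_⟩
    · obtain ⟨i, -, hi⟩ := ‹p.IsPrime›.prod_mem_iff.1 h1
      exact hs i hi
    · rw [show ((∏ i, s i) ⊗ₜ[R] (1 : A)) * w = (∏ i, s i) • w from (by rw [Algebra.smul_def]; rfl),
        ← F.sum_coord w, Finset.smul_sum]
      refine Finset.sum_eq_zero fun i _ => ?_
      rw [smul_smul, ← Finset.prod_erase_mul _ _ (Finset.mem_univ i), mul_assoc, hs0, mul_zero, zero_smul]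
  have hone : ∀ i : Fin F.n, ∃ s ∉ p, (s ⊗ₜ (1 : A)) * augProj R A B ((1 : B) ⊗ₜ F.p i) ∈ fixIdeal R A B := by
    intro i
    obtain ⟨s, hs, j, hj, hy⟩ := hden _ (hN0 (φ ((1 : B) ⊗ₜ F.p i)))
    have h1 : φ ((s ⊗ₜ (1 : A)) * augProj R A B ((1 : B) ⊗ₜ F.p i) - j) = 0 := by
      rw [map_sub, map_mul, hy, map_augProj, Algebra.TensorProduct.map_tmul, map_one, sub_self]
    obtain ⟨t, ht, ht0⟩ := hker _ h1
    refine ⟨t * s, ‹p.IsPrime›.mul_notMem ht hs, ?_⟩
    rw [mul_sub, sub_eq_zero, ← mul_assoc, Algebra.TensorProduct.tmul_mul_tmul, mul_one] at ht0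
    rw [ht0]
    exact Ideal.mul_mem_left _ _ hj
  choose s hs hsJ using hone
  refine ⟨∏ i, s i, fun h1 => ?_, fun a => ?_⟩
  · obtain ⟨i, -, hi⟩ := ‹p.IsPrime›.prod_mem_iff.1 h1
    exact hs i hi
  · have ha : ((1 : B) ⊗ₜ[R] a) = ∑ i, algebraMap R B (F.c i a) • ((1 : B) ⊗ₜ[R] F.p i) := by
      conv_lhs => rw [← F.sum_eq a, TensorProduct.tmul_sum]
      simp [TensorProduct.tmul_smul, Algebra.algebraMap_eq_smul_one]
    rw [ha, map_sum, Finset.mul_sum]
    refine Submodule.sum_mem _ fun i _ => ?_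
    rw [map_smul, mul_smul_comm]
    refine Submodule.smul_of_tower_mem _ _ ?_
    rw [← Finset.mul_prod_erase _ _ (Finset.mem_univ i),
      show (s i * ∏ k ∈ Finset.univ.erase i, s k) ⊗ₜ[R] (1 : A) =
        ((∏ k ∈ Finset.univ.erase i, s k) ⊗ₜ[R] (1 : A)) * (s i ⊗ₜ[R] (1 : A)) by
          rw [Algebra.TensorProduct.tmul_mul_tmul, mul_one, mul_comm], mul_assoc]
    exact Ideal.mul_mem_left _ _ (hsJ i)

omit [Module.Finite R A] [Module.Projective R A] in
theorem eq_unit_of_killer {L : Type u} [CommRing L] [Algebra R L] (z : B →ₐ[R] L) (a : A →ₐ[R] L) (s : B)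
    (hs : ∀ a : A, (s ⊗ₜ (1 : A)) * augProj R A B ((1 : B) ⊗ₜ a) ∈ fixIdeal R A B) (hu : IsUnit (z s))
    (hfix : act ρ₀ z a = z) : a = unitPt L := by
  let Φ : B ⊗[R] A →ₐ[R] L := Algebra.TensorProduct.lift z a fun _ _ => .all _ _
  have hle : fixIdeal R A B ≤ RingHom.ker Φ := by
    rw [fixIdeal, Ideal.span_le]
    rintro _ ⟨b, rfl⟩
    show Φ (ρ₀ b - b ⊗ₜ (1 : A)) = 0
    rw [map_sub, show Φ (ρ₀ b) = z b from AlgHom.congr_fun hfix b, Algebra.TensorProduct.lift_tmul, map_one,
      mul_one, sub_self]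
  refine AlgHom.ext fun c => ?_
  have h1 : Φ ((s ⊗ₜ (1 : A)) * augProj R A B ((1 : B) ⊗ₜ c)) = 0 := hle (hs c)
  rw [map_mul, Algebra.TensorProduct.lift_tmul, map_one, mul_one, hu.mul_right_eq_zero, augProj_tmul,
    map_sub, sub_eq_zero, Algebra.TensorProduct.lift_tmul, Algebra.TensorProduct.lift_tmul, map_one, one_mul,
    map_one, mul_one, map_smul, map_one] at h1
  rw [h1]
  show _ = algebraMap R L _
  rw [Algebra.algebraMap_eq_smul_one]
  rfl

/-- Triviality at a point spreads to a neighbourhood in the quotient. -/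
theorem exists_invariant_killer {K : Type u} [Field K] [Algebra R K] (x : B →ₐ[R] K) (h : TrivAlg (A := A) x) :
    ∃ c ∈ GLin.invariants R A B, x c ≠ 0 ∧
      ∀ a : A, (c ⊗ₜ (1 : A)) * augProj R A B ((1 : B) ⊗ₜ a) ∈ fixIdeal R A B := by
  let C := GLin.invariants R A B
  let N : Ideal B :=
    { carrier := {s | ∀ a : A, (s ⊗ₜ (1 : A)) * augProj R A B ((1 : B) ⊗ₜ a) ∈ fixIdeal R A B}
      add_mem' := fun {s t} hs ht a => by
        rw [TensorProduct.add_tmul, add_mul]
        exact add_mem (hs a) (ht a)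
      zero_mem' := fun a => by simp
      smul_mem' := fun b s hs a => by
        rw [smul_eq_mul, show (b * s) ⊗ₜ[R] (1 : A) = (b ⊗ₜ[R] (1 : A)) * (s ⊗ₜ[R] (1 : A)) by
          rw [Algebra.TensorProduct.tmul_mul_tmul, mul_one], mul_assoc]
        exact Ideal.mul_mem_left _ _ (hs a) }
  by_contra hcon
  push Not at hcon
  haveI : Algebra.IsIntegral C B := isIntegral_invariants
  let q : Ideal C := RingHom.ker (x.toRingHom.comp (algebraMap C B))
  haveI : q.IsPrime := RingHom.ker_isPrime _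
  obtain ⟨p, hNp, hp, hpq⟩ := Ideal.exists_ideal_over_prime_of_isIntegral q N fun c (hc : (c : B) ∈ N) =>
    by_contra fun hcx => by
      obtain ⟨a, ha⟩ := hcon c c.2 hcx
      exact ha (hc a)
  obtain ⟨s, hsp, hs⟩ := exists_killer p (trivAlg_of_agree x _ (fun c hc => by
    show x c = 0 ↔ algebraMap B p.ResidueField c = 0
    rw [Ideal.algebraMap_residueField_eq_zero]
    exact ⟨fun hx => (hpq.ge (show (⟨c, hc⟩ : C) ∈ q from hx) : _),
      fun hx => hpq.le (show (⟨c, hc⟩ : C) ∈ p.comap (algebraMap C B) from hx)⟩) h)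
  exact hsp (hNp hs)

/-- Triviality at every maximal ideal gives freeness. -/
theorem eq_unit_of_forall_maximal (h : ∀ p : Ideal B, p.IsMaximal → ∀ [p.IsPrime],
      TrivAlg (A := A) (IsScalarTower.toAlgHom R B p.ResidueField))
    {L : Type u} [CommRing L] [Algebra R L] (z : B →ₐ[R] L) (a : A →ₐ[R] L) (hfix : act ρ₀ z a = z) :
    a = unitPt L := by
  let N : Ideal B :=
    { carrier := {s | ∀ a : A, (s ⊗ₜ (1 : A)) * augProj R A B ((1 : B) ⊗ₜ a) ∈ fixIdeal R A B}
      add_mem' := fun {s t} hs ht a => by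
        rw [TensorProduct.add_tmul, add_mul]
        exact add_mem (hs a) (ht a)
      zero_mem' := fun a => by simp
      smul_mem' := fun b s hs a => by
        rw [smul_eq_mul, show (b * s) ⊗ₜ[R] (1 : A) = (b ⊗ₜ[R] (1 : A)) * (s ⊗ₜ[R] (1 : A)) by
          rw [Algebra.TensorProduct.tmul_mul_tmul, mul_one], mul_assoc]
        exact Ideal.mul_mem_left _ _ (hs a) }
  have hN : N = ⊤ := by
    by_contra hne
    obtain ⟨p, hp, hNp⟩ := N.exists_le_maximal hne
    haveI := hp.isPrime
    obtain ⟨s, hsp, hs⟩ := exists_killer p (h p hp)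
    exact hsp (hNp hs)
  exact eq_unit_of_killer z a 1 ((Ideal.eq_top_iff_one N).1 hN) (by rw [map_one]; exact isUnit_one) hfix

end Spread

end Groth.Agent.CoactOrbitLib
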