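import Groth.Agent.CoactOrbitLib.Charpoly
import Groth.Agent.MultTypeLib.Averaging
import Mathlib.Algebra.Polynomial.AlgebraMap
import Mathlib.RingTheory.Localization.FractionRing
import Mathlib.FieldTheory.IsAlgClosed.AlgebraicClosure
import Mathlib.FieldTheory.Minpoly.Field

/-!
For a coaction of a finite projective Hopf algebra, points agreeing on the invariants lie in one orbit.
-/

set_option autoImplicit false
universe u

open TensorProduct Polynomial WithConv Groth.Agent.MultTypeLib

noncomputable section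

namespace Groth.Agent.CoactOrbitLib

attribute [local instance 2000] algConvGroup

variable {R A B : Type u} [CommRing R] [CommRing A] [HopfAlgebra R A] [CommRing B] [Algebra R B]
variable (ρ : B →ₐ[R] B ⊗[R] A)

/-- Coassociativity of a coaction. -/
def IsCoassoc : Prop :=
  (Algebra.TensorProduct.map (AlgHom.id R B) (Bialgebra.comulAlgHom R A)).comp ρ =
    (Algebra.TensorProduct.assoc R R R B A A).toAlgHom.comp
      ((Algebra.TensorProduct.map ρ (AlgHom.id R A)).comp ρ)

/-- Counitality of a coaction. -/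
def IsCounital : Prop :=
  ∀ b, Algebra.TensorProduct.rid R R B
    (Algebra.TensorProduct.map (AlgHom.id R B) (Bialgebra.counitAlgHom R A) (ρ b)) = b

/-- A point moved by a group point. -/
def act {K : Type u} [CommRing K] [Algebra R K] (x : B →ₐ[R] K) (g : A →ₐ[R] K) : B →ₐ[R] K :=
  (Algebra.TensorProduct.lift x g fun _ _ => .all _ _).comp ρ

variable (R A B)

/-- The first projection `A → (B ⊗ A) ⊗ A`. -/
def uPt : WithConv (A →ₐ[R] (B ⊗[R] A) ⊗[R] A) :=
  toConv ((Algebra.TensorProduct.includeLeft : B ⊗[R] A →ₐ[R] (B ⊗[R] A) ⊗[R] A).comp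
    Algebra.TensorProduct.includeRight)

/-- The second projection `A → (B ⊗ A) ⊗ A`. -/
def vPt : WithConv (A →ₐ[R] (B ⊗[R] A) ⊗[R] A) := toConv Algebra.TensorProduct.includeRight

/-- An endomorphism over `B ⊗ A` from a point. -/
def shearHom (g : WithConv (A →ₐ[R] (B ⊗[R] A) ⊗[R] A)) :
    (B ⊗[R] A) ⊗[R] A →ₐ[B ⊗[R] A] (B ⊗[R] A) ⊗[R] A :=
  Algebra.TensorProduct.lift (Algebra.ofId (B ⊗[R] A) _) g.ofConv fun _ _ => .all _ _

theorem convMap_shearHom_u (g : WithConv (A →ₐ[R] (B ⊗[R] A) ⊗[R] A)) :
    convMap ((shearHom R A B g).restrictScalars R) (uPt R A B) = uPt R A B := by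
  refine WithConv.ext (AlgHom.ext fun a => ?_)
  show shearHom R A B g (((1 : B) ⊗ₜ a) ⊗ₜ (1 : A)) = ((1 : B) ⊗ₜ a) ⊗ₜ (1 : A)
  exact (shearHom R A B g).commutes ((1 : B) ⊗ₜ a)

theorem convMap_shearHom_v (g : WithConv (A →ₐ[R] (B ⊗[R] A) ⊗[R] A)) :
    convMap ((shearHom R A B g).restrictScalars R) (vPt R A B) = g := by
  refine WithConv.ext (AlgHom.ext fun a => ?_)
  show shearHom R A B g ((1 : B ⊗[R] A) ⊗ₜ a) = g.ofConv a
  rw [shearHom, Algebra.TensorProduct.lift_tmul, map_one, one_mul]

/-- The shear automorphism `(b, x, y) ↦ (b, x, x y)`. -/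
def shear : (B ⊗[R] A) ⊗[R] A ≃ₐ[B ⊗[R] A] (B ⊗[R] A) ⊗[R] A :=
  AlgEquiv.ofAlgHom (shearHom R A B (uPt R A B * vPt R A B)) (shearHom R A B ((uPt R A B)⁻¹ * vPt R A B))
    (Algebra.TensorProduct.ext (Subsingleton.elim _ _) (by
      have h : convMap ((shearHom R A B (uPt R A B * vPt R A B)).restrictScalars R) ((uPt R A B)⁻¹ * vPt R A B) =
          vPt R A B := by
        rw [map_mul, map_inv, convMap_shearHom_u, convMap_shearHom_v, inv_mul_cancel_left]
      refine AlgHom.ext fun a => ?_
      refine Eq.trans ?_ (congrArg (fun f : WithConv (A →ₐ[R] (B ⊗[R] A) ⊗[R] A) => f.ofConv a) h)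
      show shearHom R A B _ (shearHom R A B _ ((1 : B ⊗[R] A) ⊗ₜ a)) = _
      exact congrArg (shearHom R A B (uPt R A B * vPt R A B))
        (congrArg (fun f : WithConv (A →ₐ[R] (B ⊗[R] A) ⊗[R] A) => f.ofConv a)
          (convMap_shearHom_v R A B ((uPt R A B)⁻¹ * vPt R A B)))))
    (Algebra.TensorProduct.ext (Subsingleton.elim _ _) (by
      have h : convMap ((shearHom R A B ((uPt R A B)⁻¹ * vPt R A B)).restrictScalars R) (uPt R A B * vPt R A B) =
          vPt R A B := by
        rw [map_mul, convMap_shearHom_u, convMap_shearHom_v, mul_inv_cancel_left]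
      refine AlgHom.ext fun a => ?_
      refine Eq.trans ?_ (congrArg (fun f : WithConv (A →ₐ[R] (B ⊗[R] A) ⊗[R] A) => f.ofConv a) h)
      exact congrArg (shearHom R A B ((uPt R A B)⁻¹ * vPt R A B))
        (congrArg (fun f : WithConv (A →ₐ[R] (B ⊗[R] A) ⊗[R] A) => f.ofConv a)
          (convMap_shearHom_v R A B (uPt R A B * vPt R A B)))))

theorem shear_apply (w : B ⊗[R] A) :
    shear R A B (Algebra.TensorProduct.map (Algebra.TensorProduct.includeLeft : B →ₐ[R] B ⊗[R] A) (AlgHom.id R A) w) =
      (Algebra.TensorProduct.assoc R R R B A A).symm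
        (Algebra.TensorProduct.map (AlgHom.id R B) (Bialgebra.comulAlgHom R A) w) := by
  induction w using TensorProduct.induction_on with
  | zero => simp
  | add x y hx hy => simp only [map_add, hx, hy]
  | tmul b a =>
    show shearHom R A B (uPt R A B * vPt R A B) ((b ⊗ₜ (1 : A)) ⊗ₜ a) = _
    rw [shearHom, Algebra.TensorProduct.lift_tmul, Algebra.TensorProduct.map_tmul, AlgHom.id_apply,
      AlgHom.convMul_apply]
    show _ = (Algebra.TensorProduct.assoc R R R B A A).symm (b ⊗ₜ Coalgebra.comul (R := R) a)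
    generalize Coalgebra.comul (R := R) a = z
    induction z using TensorProduct.induction_on with
    | zero => simp
    | add x y hx hy => simp only [map_add, TensorProduct.tmul_add, mul_add, hx, hy]
    | tmul p q => simp [uPt, vPt, Algebra.ofId_apply]

variable {R A B}

theorem coeff_invariant (hco : IsCoassoc ρ) (F : Frame R A) (b : B) (k : ℕ) :
    ρ ((F.cp (ρ b)).coeff k) = (F.cp (ρ b)).coeff k ⊗ₜ (1 : A) := by
  have h1 : Algebra.TensorProduct.map ρ (AlgHom.id R A) (ρ b) =
      shear R A B (Algebra.TensorProduct.map (Algebra.TensorProduct.includeLeft : B →ₐ[R] B ⊗[R] A) (AlgHom.id R A) (ρ b)) := by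
    rw [shear_apply]
    have h := AlgHom.congr_fun hco b
    simp only [AlgHom.comp_apply] at h
    rw [h]
    exact ((Algebra.TensorProduct.assoc R R R B A A).symm_apply_apply _).symm
  have h2 : (F.cp (ρ b)).map ρ.toRingHom =
      (F.cp (ρ b)).map (Algebra.TensorProduct.includeLeft : B →ₐ[R] B ⊗[R] A).toRingHom := by
    rw [← F.cp_map ρ, ← F.cp_map, h1, F.cp_algEquiv]
  have h3 := congrArg (fun P => Polynomial.coeff P k) h2
  simp only [Polynomial.coeff_map] at h3
  exact h3

variable [Module.Finite R A] [Module.Projective R A]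

theorem exists_monic_invariant (hco : IsCoassoc ρ) (hcu : IsCounital ρ) (b : B) :
    ∃ P : B[X], P.Monic ∧ (∀ k, ρ (P.coeff k) = P.coeff k ⊗ₜ (1 : A)) ∧ aeval b P = 0 := by
  obtain ⟨F⟩ := exists_frame (R := R) (A := A)
  refine ⟨F.cp (ρ b), F.cp_monic _, coeff_invariant ρ hco F b, ?_⟩
  let ε : B ⊗[R] A →ₐ[B] B := (Algebra.TensorProduct.rid R B B).toAlgHom.comp
    (Algebra.TensorProduct.map (AlgHom.id B B) (Bialgebra.counitAlgHom R A))
  have h := congrArg ε (F.aeval_cp (ρ b))
  rw [← Polynomial.aeval_algHom_apply, map_zero] at h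
  rwa [show ε (ρ b) = b from hcu b] at h

variable {K : Type u} [Field K] [Algebra R K] [IsAlgClosed K]

theorem exists_pt_apply (hco : IsCoassoc ρ) (hcu : IsCounital ρ) (x₁ x₂ : B →ₐ[R] K)
    (h : ∀ c : B, ρ c = c ⊗ₜ (1 : A) → x₁ c = x₂ c) (b : B) (hb : x₂ b ≠ 0) :
    ∃ g : A →ₐ[R] K, act ρ x₁ g b = x₂ b := by
  obtain ⟨F⟩ := exists_frame (R := R) (A := A)
  have hmap : (F.cp (ρ b)).map x₁.toRingHom = (F.cp (ρ b)).map x₂.toRingHom := by
    ext k
    rw [Polynomial.coeff_map, Polynomial.coeff_map]
    exact h _ (coeff_invariant ρ hco F b k)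
  have hroot : ((F.cp (ρ b)).map x₁.toRingHom).IsRoot (x₂ b) := by
    rw [hmap]
    let ε : B ⊗[R] A →ₐ[B] B := (Algebra.TensorProduct.rid R B B).toAlgHom.comp
      (Algebra.TensorProduct.map (AlgHom.id B B) (Bialgebra.counitAlgHom R A))
    have h0 := congrArg ε (F.aeval_cp (ρ b))
    rw [← Polynomial.aeval_algHom_apply, map_zero, show ε (ρ b) = b from hcu b] at h0
    rw [Polynomial.IsRoot]
    exact (Polynomial.eval_map_apply x₂.toRingHom b).trans (by
      rw [show (F.cp (ρ b)).eval b = 0 by rwa [← Polynomial.coe_aeval_eq_eval], map_zero])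
  rw [← F.cp_map] at hroot
  obtain ⟨gK, hgK⟩ := F.exists_point_of_isRoot _ hb hroot
  refine ⟨(gK.restrictScalars R).comp Algebra.TensorProduct.includeRight, ?_⟩
  refine Eq.trans ?_ hgK
  show Algebra.TensorProduct.lift x₁ _ (fun _ _ => .all _ _) (ρ b) = gK (Algebra.TensorProduct.map x₁ (AlgHom.id R A) (ρ b))
  generalize ρ b = w
  induction w using TensorProduct.induction_on with
  | zero => simp
  | add p q hp hq => simp only [map_add, hp, hq]
  | tmul p q =>
    rw [Algebra.TensorProduct.lift_tmul, Algebra.TensorProduct.map_tmul, AlgHom.id_apply,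
      show x₁ p ⊗ₜ[R] q = x₁ p • ((1 : K) ⊗ₜ[R] q) by rw [TensorProduct.smul_tmul', smul_eq_mul, mul_one],
      map_smul, smul_eq_mul]
    rfl

/-- The coaction on polynomials. -/
def polyCoact : B[X] →ₐ[R] B[X] ⊗[R] A :=
  Polynomial.eval₂AlgHom ((Algebra.TensorProduct.map (Polynomial.CAlgHom : B →ₐ[R] B[X]) (AlgHom.id R A)).comp ρ)
    (Polynomial.X ⊗ₜ (1 : A)) fun _ => .all _ _

theorem polyCoact_C (b : B) :
    polyCoact ρ (Polynomial.C b) = Algebra.TensorProduct.map (Polynomial.CAlgHom : B →ₐ[R] B[X]) (AlgHom.id R A) (ρ b) :=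
  Polynomial.eval₂_C _ _

theorem polyCoact_X : polyCoact ρ Polynomial.X = Polynomial.X ⊗ₜ (1 : A) :=
  Polynomial.eval₂_X _ _

theorem isCoassoc_polyCoact (hco : IsCoassoc ρ) : IsCoassoc (polyCoact ρ) := by
  refine Polynomial.algHom_ext' (AlgHom.ext fun b => ?_) ?_
  · have h := AlgHom.congr_fun hco b
    simp only [AlgHom.comp_apply] at h
    have e1 : ∀ w : B ⊗[R] A, Algebra.TensorProduct.map (AlgHom.id R B[X]) (Bialgebra.comulAlgHom R A)
        (Algebra.TensorProduct.map (Polynomial.CAlgHom : B →ₐ[R] B[X]) (AlgHom.id R A) w) =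
        Algebra.TensorProduct.map (Polynomial.CAlgHom : B →ₐ[R] B[X]) (AlgHom.id R (A ⊗[R] A))
          (Algebra.TensorProduct.map (AlgHom.id R B) (Bialgebra.comulAlgHom R A) w) := fun w => by
      induction w using TensorProduct.induction_on with
      | zero => simp
      | add p q hp hq => simp only [map_add, hp, hq]
      | tmul p q => simp
    have e2 : ∀ w : B ⊗[R] A, Algebra.TensorProduct.map (polyCoact ρ) (AlgHom.id R A)
        (Algebra.TensorProduct.map (Polynomial.CAlgHom : B →ₐ[R] B[X]) (AlgHom.id R A) w) =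
        Algebra.TensorProduct.map (Algebra.TensorProduct.map (Polynomial.CAlgHom : B →ₐ[R] B[X]) (AlgHom.id R A)) (AlgHom.id R A)
          (Algebra.TensorProduct.map ρ (AlgHom.id R A) w) := fun w => by
      induction w using TensorProduct.induction_on with
      | zero => simp
      | add p q hp hq => simp only [map_add, hp, hq]
      | tmul p q => simp [polyCoact_C]
    have e3 : ∀ y : (B ⊗[R] A) ⊗[R] A, (Algebra.TensorProduct.assoc R R R B[X] A A)
        (Algebra.TensorProduct.map (Algebra.TensorProduct.map (Polynomial.CAlgHom : B →ₐ[R] B[X]) (AlgHom.id R A)) (AlgHom.id R A) y) =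
        Algebra.TensorProduct.map (Polynomial.CAlgHom : B →ₐ[R] B[X]) (AlgHom.id R (A ⊗[R] A))
          (Algebra.TensorProduct.assoc R R R B A A y) := fun y => by
      induction y using TensorProduct.induction_on with
      | zero => simp
      | add p q hp hq => simp only [map_add, hp, hq]
      | tmul w q =>
        induction w using TensorProduct.induction_on with
        | zero => simp
        | add p q hp hq => simp only [TensorProduct.add_tmul, map_add, hp, hq]
        | tmul p r => simp
    show Algebra.TensorProduct.map (AlgHom.id R B[X]) _ (polyCoact ρ (Polynomial.C b)) =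
      (Algebra.TensorProduct.assoc R R R B[X] A A)
        (Algebra.TensorProduct.map (polyCoact ρ) (AlgHom.id R A) (polyCoact ρ (Polynomial.C b)))
    rw [polyCoact_C, e1, e2, e3, h]
    rfl
  · show Algebra.TensorProduct.map (AlgHom.id R B[X]) _ (polyCoact ρ Polynomial.X) =
      (Algebra.TensorProduct.assoc R R R B[X] A A)
        (Algebra.TensorProduct.map (polyCoact ρ) (AlgHom.id R A) (polyCoact ρ Polynomial.X))
    simp [polyCoact_X, Algebra.TensorProduct.one_def]

theorem isCounital_polyCoact (hcu : IsCounital ρ) : IsCounital (polyCoact ρ) := by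
  intro P
  suffices hh : (Algebra.TensorProduct.rid R R B[X]).toAlgHom.comp
      ((Algebra.TensorProduct.map (AlgHom.id R B[X]) (Bialgebra.counitAlgHom R A)).comp (polyCoact ρ)) =
      AlgHom.id R B[X] from AlgHom.congr_fun hh P
  refine Polynomial.algHom_ext' (AlgHom.ext fun b => ?_) ?_
  · show Algebra.TensorProduct.rid R R B[X] (Algebra.TensorProduct.map _ _ (polyCoact ρ (Polynomial.C b))) =
      Polynomial.C b
    conv_rhs => rw [← hcu b]
    rw [polyCoact_C]
    generalize ρ b = w
    induction w using TensorProduct.induction_on with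
    | zero => simp
    | add p q hp hq => simp only [map_add, hp, hq]
    | tmul p q => simp [Polynomial.smul_C]
  · show Algebra.TensorProduct.rid R R B[X] (Algebra.TensorProduct.map _ _ (polyCoact ρ Polynomial.X)) =
      Polynomial.X
    simp [polyCoact_X]

theorem coeff_invariant_poly (P : B[X]) (hP : polyCoact ρ P = P ⊗ₜ (1 : A)) (m : ℕ) :
    ρ (P.coeff m) = P.coeff m ⊗ₜ (1 : A) := by
  let L : B[X] →ₗ[R] B := (Polynomial.lcoeff B m).restrictScalars R
  have key : ∀ Q : B[X], L.rTensor A (polyCoact ρ Q) = ρ (Q.coeff m) := by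
    intro Q
    induction Q using Polynomial.induction_on' with
    | add Q Q' hQ hQ' => simp only [map_add, hQ, hQ', Polynomial.coeff_add]
    | monomial i b =>
      have h1 : polyCoact ρ (Polynomial.monomial i b) =
          Algebra.TensorProduct.map (Polynomial.CAlgHom : B →ₐ[R] B[X]) (AlgHom.id R A) (ρ b) * ((Polynomial.X ^ i) ⊗ₜ (1 : A)) := by
        rw [← Polynomial.C_mul_X_pow_eq_monomial, map_mul, polyCoact_C, map_pow, polyCoact_X,
          Algebra.TensorProduct.tmul_pow, one_pow]
      rw [h1, Polynomial.coeff_monomial]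
      generalize hw : ρ b = w
      have h2 : L.rTensor A (Algebra.TensorProduct.map (Polynomial.CAlgHom : B →ₐ[R] B[X]) (AlgHom.id R A) w *
          ((Polynomial.X ^ i) ⊗ₜ (1 : A))) = if i = m then w else 0 := by
        clear h1 hw
        induction w using TensorProduct.induction_on with
        | zero => simp
        | add p q hp hq =>
          simp only [map_add, add_mul, hp, hq]
          split <;> simp
        | tmul p q =>
          simp [L, Polynomial.C_mul_X_pow_eq_monomial, Polynomial.coeff_monomial]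
          split <;> simp
      rw [h2]
      split_ifs
      · exact hw.symm
      · exact (map_zero ρ).symm
  rw [← key P, hP]
  simp [L]

theorem exists_pt (hco : IsCoassoc ρ) (hcu : IsCounital ρ) (x₁ x₂ : B →ₐ[R] K)
    (h : ∀ c : B, ρ c = c ⊗ₜ (1 : A) → x₁ c = x₂ c) : ∃ g : A →ₐ[R] K, act ρ x₁ g = x₂ := by
  classical
  by_contra hne
  push Not at hne
  haveI : Finite (A →ₐ[R] K) := Finite.of_injective
    (fun g : A →ₐ[R] K => Algebra.TensorProduct.lift (Algebra.ofId K K) g fun _ _ => .all _ _)
    fun g g' hgg => AlgHom.ext fun a => by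
      simpa using AlgHom.congr_fun hgg ((1 : K) ⊗ₜ a)
  haveI := Fintype.ofFinite (A →ₐ[R] K)
  have hb : ∀ g : A →ₐ[R] K, ∃ b, act ρ x₁ g b ≠ x₂ b := fun g => by
    by_contra hg
    push Not at hg
    exact hne g (AlgHom.ext hg)
  choose b hb using hb
  let e := Fintype.equivFin (A →ₐ[R] K)
  let q : B[X] := 1 + ∑ g, Polynomial.C (b g) * Polynomial.X ^ ((e g : ℕ) + 1)
  obtain ⟨L, _, _, ⟨ι, hι⟩⟩ : ∃ (L : Type u) (_ : Field L) (_ : IsAlgClosed L),
      ∃ ι : K[X] →+* L, Function.Injective ι :=
    ⟨AlgebraicClosure (FractionRing K[X]), inferInstance, inferInstance,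
      (algebraMap (FractionRing K[X]) _).comp (algebraMap K[X] _),
      (algebraMap (FractionRing K[X]) _).injective.comp (IsFractionRing.injective _ _)⟩
  letI : Algebra R L := (ι.comp (algebraMap R K[X])).toAlgebra
  let ιa : K[X] →ₐ[R] L := { ι with commutes' := fun _ => rfl }
  letI : Algebra K L := (ι.comp Polynomial.C).toAlgebra
  haveI : IsScalarTower R K L := IsScalarTower.of_algebraMap_eq fun _ => rfl
  let ext' : (B →ₐ[R] K) → (B[X] →ₐ[R] L) := fun x => ιa.comp (Polynomial.mapAlgHom x)
  have hq : ext' x₂ q ≠ 0 := fun h0 => by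
    have h1 : (Polynomial.mapAlgHom x₂ q) = 0 := hι (by rw [map_zero]; exact h0)
    have h2 := congrArg (fun P : K[X] => P.coeff 0) h1
    simp [q, Polynomial.coe_mapAlgHom, Polynomial.coeff_map, Polynomial.finset_sum_coeff] at h2
  obtain ⟨g', hg'⟩ := exists_pt_apply (polyCoact ρ) (isCoassoc_polyCoact ρ hco) (isCounital_polyCoact ρ hcu)
    (ext' x₁) (ext' x₂) (fun P hP => by
      show ιa (Polynomial.mapAlgHom x₁ P) = ιa (Polynomial.mapAlgHom x₂ P)
      congr 1
      ext m
      simp only [Polynomial.coe_mapAlgHom, Polynomial.coeff_map]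
      exact h _ (coeff_invariant_poly ρ P hP m)) q hq
  -- the point is defined over `K`
  have hgK : ∀ a, ∃ l : K, algebraMap K L l = g' a := by
    intro a
    let G : K ⊗[R] A →ₐ[K] L := Algebra.TensorProduct.lift (Algebra.ofId K L) g' fun _ _ => .all _ _
    have hint : IsIntegral K (g' a) := by
      have := (IsIntegral.of_finite K ((1 : K) ⊗ₜ[R] a)).map G
      simpa [G] using this
    refine ⟨-(minpoly K (g' a)).coeff 0, ?_⟩
    have hdeg := IsAlgClosed.degree_eq_one_of_irreducible K (minpoly.irreducible hint)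
    have hm := minpoly.aeval K (g' a)
    rw [Polynomial.eq_X_add_C_of_degree_eq_one hdeg, Polynomial.Monic.leadingCoeff (minpoly.monic hint),
      Polynomial.C_1, one_mul, map_add, Polynomial.aeval_X, Polynomial.aeval_C] at hm
    rw [map_neg]
    exact neg_eq_of_add_eq_zero_left hm
  choose g hg using hgK
  have hinj := (algebraMap K L).injective
  let gK : A →ₐ[R] K :=
    { toFun := g
      map_one' := hinj (by rw [hg, map_one, map_one])
      map_mul' := fun a a' => hinj (by rw [hg, map_mul, map_mul, hg, hg])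
      map_zero' := hinj (by rw [hg, map_zero, map_zero])
      map_add' := fun a a' => hinj (by rw [hg, map_add, map_add, hg, hg])
      commutes' := fun r => hinj (by rw [hg, g'.commutes, ← IsScalarTower.algebraMap_apply]) }
  have hcomm : act (polyCoact ρ) (ext' x₁) g' = ext' (act ρ x₁ gK) := by
    refine Polynomial.algHom_ext' (AlgHom.ext fun c => ?_) ?_
    · show Algebra.TensorProduct.lift (ext' x₁) g' (fun _ _ => .all _ _) (polyCoact ρ (Polynomial.C c)) =
        ι ((Polynomial.C c).map (act ρ x₁ gK).toRingHom)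
      rw [polyCoact_C, Polynomial.map_C]
      show _ = ι (Polynomial.C (Algebra.TensorProduct.lift x₁ gK (fun _ _ => .all _ _) (ρ c)))
      generalize ρ c = w
      induction w using TensorProduct.induction_on with
      | zero => simp
      | add p r hp hr => simp only [map_add, hp, hr]
      | tmul p r =>
        rw [Algebra.TensorProduct.map_tmul, Algebra.TensorProduct.lift_tmul, Algebra.TensorProduct.lift_tmul,
          AlgHom.id_apply, map_mul, map_mul, ← hg r]
        simp [ext', ιa, Polynomial.coe_mapAlgHom]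
        exact Or.inl rfl
    · show Algebra.TensorProduct.lift (ext' x₁) g' (fun _ _ => .all _ _) (polyCoact ρ Polynomial.X) =
        ι ((Polynomial.X : B[X]).map (act ρ x₁ gK).toRingHom)
      rw [polyCoact_X, Algebra.TensorProduct.lift_tmul, map_one, mul_one, Polynomial.map_X]
      simp [ext', ιa, Polynomial.coe_mapAlgHom]
  rw [show act (polyCoact ρ) (ext' x₁) g' q = ext' (act ρ x₁ gK) q from AlgHom.congr_fun hcomm q] at hg'
  have h3 : Polynomial.mapAlgHom (act ρ x₁ gK) q = Polynomial.mapAlgHom x₂ q := hι hg'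
  have h4 := congrArg (fun P : K[X] => P.coeff ((e gK : ℕ) + 1)) h3
  simp only [Polynomial.coe_mapAlgHom, Polynomial.coeff_map] at h4
  have h5 : q.coeff ((e gK : ℕ) + 1) = b gK := by
    simp [q, Polynomial.finset_sum_coeff, Polynomial.coeff_one, Polynomial.coeff_C_mul, Polynomial.coeff_X_pow,
      Fin.val_inj, e.injective.eq_iff]
  rw [h5] at h4
  exact hb gK h4

end Groth.Agent.CoactOrbitLib
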