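import Groth.Agent.CoactOrbitLib.Orbit
import Groth.Prelude.Def_CoactBr
import Mathlib.AlgebraicGeometry.Pullbacks
import Mathlib.AlgebraicGeometry.GammaSpecAdjunction

/-!
Scheme-valued points of `CoactBr.sp` through global sections.
-/

set_option autoImplicit false
set_option backward.isDefEq.respectTransparency false
universe u

open CategoryTheory MonoidalCategory CartesianMonoidalCategory MonObj AlgebraicGeometry
open TensorProduct WithConv Groth.Agent.MultTypeLib

noncomputable section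

namespace Groth.Agent.CoactOrbitLib

attribute [local instance 2000] algConvGroup

section Gamma

variable {R : Type u} [CommRing R] (T : Over (Spec (CommRingCat.of R)))

/-- The global sections of a scheme over `Spec R`. -/
def Gam : Type u := (Γ(T.left, ⊤) : Type u)

instance : CommRing (Gam T) := inferInstanceAs (CommRing Γ(T.left, ⊤))

instance : Algebra R (Gam T) :=
  ((Scheme.ΓSpecIso (CommRingCat.of R)).inv ≫ T.hom.appTop).hom.toAlgebra

theorem eq_toSpecΓ_comp {T : Scheme.{u}} {B : CommRingCat.{u}} (f : T ⟶ Spec B) :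
    f = T.toSpecΓ ≫ Spec.map ((Scheme.ΓSpecIso B).inv ≫ f.appTop) := by
  rw [Spec.map_comp, ← Category.assoc, ← Scheme.toSpecΓ_naturality, Category.assoc,
    toSpecΓ_SpecMap_ΓSpecIso_inv, Category.comp_id]

theorem toSpecΓ_comp_inj {T : Scheme.{u}} {B : CommRingCat.{u}} {φ ψ : B ⟶ Γ(T, ⊤)}
    (h : T.toSpecΓ ≫ Spec.map φ = T.toSpecΓ ≫ Spec.map ψ) : φ = ψ := by
  have h1 := congrArg (fun f => (Scheme.ΓSpecIso B).inv ≫ Scheme.Hom.appTop f) h
  simp only [Scheme.Hom.comp_appTop, Scheme.toSpecΓ_appTop] at h1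
  rwa [← Category.assoc, ← Scheme.ΓSpecIso_inv_naturality, Category.assoc, Iso.inv_hom_id, Category.comp_id,
    ← Category.assoc, ← Scheme.ΓSpecIso_inv_naturality, Category.assoc, Iso.inv_hom_id, Category.comp_id] at h1

/-- The canonical map to the spectrum of the global sections. -/
def eta : T ⟶ CoactBr.sp R (Gam T) :=
  Over.homMk T.left.toSpecΓ (eq_toSpecΓ_comp T.hom).symm

variable {T}

theorem exists_ptGam {B : Type u} [CommRing B] [Algebra R B] (f : T ⟶ CoactBr.sp R B) :
    ∃ φ : B →ₐ[R] Gam T, f = eta T ≫ CoactBr.pt φ := by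
  let f' : T.left ⟶ Spec (CommRingCat.of B) := f.left
  let φ₀ := (Scheme.ΓSpecIso (CommRingCat.of B)).inv ≫ f'.appTop
  have hw : f' ≫ Spec.map (CommRingCat.ofHom (algebraMap R B)) = T.hom := Over.w f
  have h1 : CommRingCat.ofHom (algebraMap R B) ≫ φ₀ = (Scheme.ΓSpecIso (CommRingCat.of R)).inv ≫ T.hom.appTop :=
    toSpecΓ_comp_inj (T := T.left) (by
      rw [Spec.map_comp, ← Category.assoc, ← eq_toSpecΓ_comp f', hw, ← eq_toSpecΓ_comp T.hom])
  refine ⟨{ φ₀.hom with commutes' := fun r => CommRingCat.hom_ext_iff.1 h1 |> fun h => RingHom.congr_fun h r }, ?_⟩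
  exact Over.OverMorphism.ext (eq_toSpecΓ_comp f')

theorem eta_comp_pt_inj {B : Type u} [CommRing B] [Algebra R B] {φ ψ : B →ₐ[R] Gam T}
    (h : eta T ≫ CoactBr.pt φ = eta T ≫ CoactBr.pt ψ) : φ = ψ := by
  have h1 : T.left.toSpecΓ ≫ Spec.map (CommRingCat.ofHom φ.toRingHom) =
      T.left.toSpecΓ ≫ Spec.map (CommRingCat.ofHom ψ.toRingHom) := congrArg CommaMorphism.left h
  exact AlgHom.coe_ringHom_injective (congrArg CommRingCat.Hom.hom (toSpecΓ_comp_inj h1))

end Gamma

variable {R A B : Type u} [CommRing R] [CommRing A] [HopfAlgebra R A]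
  [CommRing B] [Algebra R B] [HopfRep.Comod R A B] [GLin.IsCoactAlg R A B]

theorem isCoassoc_coact : IsCoassoc (GLin.coactAlgHom R A B) :=
  congrArg CommAlgCat.Hom.hom (CoactBr.coactHom_comul R A B)

theorem isCounital_coact : IsCounital (GLin.coactAlgHom R A B) := by
  intro b
  have h := AlgHom.congr_fun (congrArg CommAlgCat.Hom.hom (CoactBr.coactHom_counit R A B)) b
  refine (congrArg (Algebra.TensorProduct.rid R R B) h).trans ?_
  exact (Algebra.TensorProduct.rid R R B).apply_symm_apply b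

variable {K L : Type u} [CommRing K] [Algebra R K] [CommRing L] [Algebra R L]

/-- The unit point. -/
def unitPt (L : Type u) [CommRing L] [Algebra R L] : A →ₐ[R] L :=
  (Algebra.ofId R L).comp (Bialgebra.counitAlgHom R A)

/-- The points fixed by nothing but the unit, over every algebra. -/
def TrivAlg (x : B →ₐ[R] K) : Prop :=
  ∀ (L : Type u) (_ : CommRing L) (_ : Algebra R L) (φ : K →ₐ[R] L) (a : A →ₐ[R] L),
    act (GLin.coactAlgHom R A B) (φ.comp x) a = φ.comp x → a = unitPt L

theorem pt_mul (g h : A →ₐ[R] K) :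
    CoactBr.pt g * CoactBr.pt h = CoactBr.pt (toConv g * toConv h).ofConv := by
  rw [CoactBr.pt_mul_pt]
  congr 1
  exact AlgHom.ext fun c => by rw [AlgHom.convMul_apply]; rfl

theorem act_one (x : B →ₐ[R] K) : act (GLin.coactAlgHom R A B) x (unitPt K) = x :=
  CoactBr.pt_injective (by
    rw [act, ← CoactBr.lift_pt_ract, show CoactBr.pt (unitPt (R := R) (A := A) K) = 1 from CoactBr.one_eq_pt.symm,
      CoactBr.lift_one_ract])

theorem act_act (x : B →ₐ[R] K) (g h : A →ₐ[R] K) :
    act (GLin.coactAlgHom R A B) (act (GLin.coactAlgHom R A B) x g) h =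
      act (GLin.coactAlgHom R A B) x (toConv g * toConv h).ofConv :=
  CoactBr.pt_injective (by
    rw [act, act, act, ← CoactBr.lift_pt_ract, ← CoactBr.lift_pt_ract, ← CoactBr.lift_pt_ract,
      CoactBr.lift_ract_ract, pt_mul])

theorem comp_act (φ : K →ₐ[R] L) (x : B →ₐ[R] K) (g : A →ₐ[R] K) :
    φ.comp (act (GLin.coactAlgHom R A B) x g) = act (GLin.coactAlgHom R A B) (φ.comp x) (φ.comp g) := by
  rw [act, act, ← AlgHom.comp_assoc]
  congr 1
  exact Algebra.TensorProduct.ext' fun b a => by simp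

theorem fix_iff {T : Over (Spec (CommRingCat.of R))} (g : T ⟶ CoactBr.sp R A) (ζ : T ⟶ CoactBr.sp R B) :
    lift g ζ ≫ (CoactBr.action R A B).act = ζ ↔ lift ζ g ≫ CoactBr.ract R A B = ζ := by
  rw [CoactBr.lift_action_act]
  constructor <;> intro h
  · conv_lhs => rw [← h]
    rw [CoactBr.lift_ract_ract, inv_mul_cancel, CoactBr.lift_one_ract]
  · conv_lhs => rw [← h]
    rw [CoactBr.lift_ract_ract, mul_inv_cancel, CoactBr.lift_one_ract]

theorem one_eq_eta (T : Over (Spec (CommRingCat.of R))) :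
    (1 : T ⟶ CoactBr.sp R A) = eta T ≫ CoactBr.pt (unitPt (Gam T)) := by
  rw [show CoactBr.pt (unitPt (R := R) (A := A) (Gam T)) = 1 from CoactBr.one_eq_pt.symm, MonObj.comp_one]

theorem fix_eta_iff {T : Over (Spec (CommRingCat.of R))} (a : A →ₐ[R] Gam T) (z : B →ₐ[R] Gam T) :
    lift (eta T ≫ CoactBr.pt a) (eta T ≫ CoactBr.pt z) ≫ (CoactBr.action R A B).act = eta T ≫ CoactBr.pt z ↔
      act (GLin.coactAlgHom R A B) z a = z := by
  rw [fix_iff, ← comp_lift, Category.assoc, CoactBr.lift_pt_ract]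
  exact ⟨fun h => eta_comp_pt_inj h, fun h => congrArg (fun f => eta T ≫ CoactBr.pt f) h⟩

/-- Triviality of the inertia at a point, on schemes and on algebras. -/
theorem trivAlg_iff (x : B →ₐ[R] K) :
    (∀ (T : Over (Spec (CommRingCat.of R))) (h : T ⟶ CoactBr.sp R K) (g : T ⟶ CoactBr.sp R A),
      lift g (h ≫ CoactBr.pt x) ≫ (CoactBr.action R A B).act = h ≫ CoactBr.pt x → g = 1) ↔
    TrivAlg (A := A) x := by
  constructor
  · intro h L _ _ φ a ha
    refine CoactBr.pt_injective ((h (CoactBr.sp R L) (CoactBr.pt φ) (CoactBr.pt a) ?_).trans CoactBr.one_eq_pt)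
    rw [← CoactBr.pt_comp, fix_iff, CoactBr.lift_pt_ract]
    exact congrArg CoactBr.pt ha
  · intro h T hh g hg
    obtain ⟨φ, rfl⟩ := exists_ptGam hh
    obtain ⟨a, rfl⟩ := exists_ptGam g
    rw [Category.assoc, ← CoactBr.pt_comp, fix_eta_iff] at hg
    rw [h (Gam T) inferInstance inferInstance φ a hg, ← one_eq_eta]

end Groth.Agent.CoactOrbitLib
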